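import Groth.Agent.H13AlgSp.GlueElem.Space
import Mathlib.AlgebraicGeometry.Morphisms.LocalFlatDescent

/-!
The glued sheaf is an algebraic space and the square is elementary distinguished.
-/

set_option autoImplicit false
set_option backward.isDefEq.respectTransparency false

universe u

open CategoryTheory CategoryTheory.Limits AlgebraicGeometry Opposite
open AlgSp Groth.Agent.H12AlgSp

noncomputable section

namespace Groth.Agent.H13AlgSp.GlueElem

variable {S : Scheme.{u}}

theorem piece {X Y W K : Sp S} {p : X ⟶ W} {q : Y ⟶ W} {k₁ : K ⟶ X} {k₂ : K ⟶ Y}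
    (sq : IsPullback k₁ k₂ p q) (hX : IsAlgSpace X) (hY : IsAlgSpace Y) (hK : IsAlgSpace K)
    (hk : LocP @Etale k₂) {A B : Over S} (a : (yon S).obj A ⟶ X) (ha : RepWith @Etale a)
    (b : (yon S).obj B ⟶ Y) :
    IsAlgSpace (pullback (a ≫ p) (b ≫ q)) ∧ LocP @Etale (pullback.snd (a ≫ p) (b ≫ q)) := by
  have hA := IsAlgSpace.yon_obj (S := S) A
  have hB := IsAlgSpace.yon_obj (S := S) B
  have sq1 := IsPullback.of_hasPullback a k₁
  have hP₁ : IsAlgSpace (pullback a k₁) := isAlgSpace_pullback hX.diag hA hK a k₁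
  have h₁ : LocP @Etale (pullback.snd a k₁ ≫ k₂) :=
    H12AlgSp.locP_comp etLocal_etale hP₁ hK hY
      (H12AlgSp.locP_of_isPullback etLocal_etale sq1 hA hX hK (H12AlgSp.locP_of_repWith etLocal_etale ha)) hk
  have big : IsPullback (pullback.fst a k₁) (pullback.snd a k₁ ≫ k₂) (a ≫ p) q := sq1.paste_vert sq
  have sq2 := IsPullback.of_hasPullback (pullback.snd a k₁ ≫ k₂) b
  have big' := sq2.paste_horiz big
  have hP₂ : IsAlgSpace (pullback (pullback.snd a k₁ ≫ k₂) b) := isAlgSpace_pullback hY.diag hP₁ hB _ b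
  have hP : IsAlgSpace (pullback (a ≫ p) (b ≫ q)) := hP₂.of_iso big'.isoPullback
  refine ⟨hP, ?_⟩
  rw [← big'.isoPullback_inv_snd]
  exact H12AlgSp.locP_comp etLocal_etale hP hP₂ hB (H12AlgSp.locP_of_repWith etLocal_etale (repWith_of_isIso _))
    (H12AlgSp.locP_of_isPullback etLocal_etale sq2 hP₁ hY hB h₁)

variable {U V V' : Sp S} {jV : V' ⟶ V} {f' : V' ⟶ U}
variable (hjV : RepWith @IsOpenImmersion jV) (hU : IsAlgSpace U) (hV : IsAlgSpace V) (hV' : IsAlgSpace V')
  (het : IsEtaleMor f')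
include hjV hU hV hV' het

theorem main : IsAlgSpace (glue jV f') ∧ IsEtaleMor (inl jV f') := by
  have := mono_jV hjV
  have := mono_inr jV f'
  obtain ⟨A, a, ha, has⟩ := hU.atlas
  obtain ⟨B, b, hb, hbs⟩ := hV.atlas
  let C : ULift.{u} Bool → Over S := fun i => match i with | ⟨true⟩ => A | ⟨false⟩ => B
  let c : ∀ i, (yon S).obj (C i) ⟶ glue jV f' := fun i => match i with
    | ⟨true⟩ => a ≫ inr jV f'
    | ⟨false⟩ => b ≫ inl jV f'
  obtain ⟨T, inc, l, ho, hs, hl, -⟩ := exists_sigma_lift C c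
  have hinc : ∀ i, RepWith @IsOpenImmersion ((yon S).map (inc i)) := fun i => (repWith_yon_map_iff _ _).2 (ho i)
  have hT := IsAlgSpace.yon_obj (S := S) T
  have hjE : LocP @Etale jV := H12AlgSp.locP_of_repWith etLocal_etale
    (repWith_le (fun _ _ k (_ : IsOpenImmersion k) => inferInstanceAs (Etale k)) hjV)
  have hp : ∀ x y, IsAlgSpace (pullback (c x) (c y)) ∧ LocP @Etale (pullback.snd (c x) (c y)) := by
    rintro ⟨⟨⟩⟩ ⟨⟨⟩⟩
    · exact piece (IsPullback.of_hasPullback (inl jV f') (inl jV f')) hV hV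
        (isAlgSpace_kernelPair hjV hU hV hV' het) (locP_etale_snd hjV hU hV hV' het) b hb b
    · exact piece (isPullback jV f') hV hU hV' (H12AlgSp.locP_etale_of_isEtaleMor het) b hb a
    · exact piece (isPullback jV f').flip hU hV hV' hjE a ha b
    · exact piece (IsKernelPair.id_of_mono (inr jV f')) hU hU hU
        (H12AlgSp.locP_of_repWith etLocal_etale (repWith_of_isIso _)) a ha a
  let φ : ∀ i : ULift.{u} Bool × ULift.{u} Bool, pullback (c i.1) (c i.2) ⟶ pullback l l := fun i =>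
    pullback.map _ _ _ _ ((yon S).map (inc i.1)) ((yon S).map (inc i.2)) (𝟙 _)
      ((Category.comp_id _).trans (hl _).symm) ((Category.comp_id _).trans (hl _).symm)
  have hφ : ∀ i, RepWith @IsOpenImmersion (φ i) := fun i =>
    MorphismProperty.pullbackMap (P := (RepWith @IsOpenImmersion : MorphismProperty (Sp S))) (hinc i.1) (hinc i.2)
      (hl _).symm (hl _).symm
  have hφcov : ∀ r : Points (pullback l l), ∃ i, r ∈ Set.range (Points.map (φ i)) := fun r => by
    induction r using Points.ind with | h p =>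
    obtain ⟨t₁, ht₁⟩ := (yon S).map_surjective (p.toHom ≫ pullback.fst l l)
    obtain ⟨t₂, ht₂⟩ := (yon S).map_surjective (p.toHom ≫ pullback.snd l l)
    have hlift : ∀ t : p.pt ⟶ T, ∃ (i : ULift.{u} Bool) (m : p.pt ⟶ C i), m ≫ inc i = t := by
      intro t
      obtain ⟨i, hi⟩ := hs (t.left (IsLocalRing.closedPoint p.K))
      have := ho i
      have hr : Set.range t.left ⊆ Set.range (inc i).left := by
        rintro _ ⟨z, rfl⟩
        have : z = IsLocalRing.closedPoint p.K := Subsingleton.elim (α := PrimeSpectrum _) _ _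
        exact this ▸ hi
      exact ⟨i, Over.homMk (IsOpenImmersion.lift (inc i).left t.left hr)
        (by rw [← Over.w (inc i), IsOpenImmersion.lift_fac_assoc, Over.w]),
        Over.OverMorphism.ext (IsOpenImmersion.lift_fac _ _ _)⟩
    obtain ⟨i₁, m₁, hm₁⟩ := hlift t₁
    obtain ⟨i₂, m₂, hm₂⟩ := hlift t₂
    have w : (yon S).map m₁ ≫ c i₁ = (yon S).map m₂ ≫ c i₂ := by
      rw [← hl, ← hl, ← Functor.map_comp_assoc, ← Functor.map_comp_assoc, hm₁, hm₂, ht₁, ht₂, Category.assoc,
        Category.assoc, pullback.condition]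
    refine ⟨(i₁, i₂), Points.ofPt (pullback.lift _ _ w) (IsLocalRing.closedPoint p.K), ?_⟩
    have e : pullback.lift _ _ w ≫ φ (i₁, i₂) = p.toHom := by
      apply pullback.hom_ext
      · simp [φ, ← ht₁, ← hm₁]
      · simp [φ, ← ht₂, ← hm₂]
    rw [Points.map_ofPt, e]
    exact Points.ofPt_toHom p _
  have hR : IsAlgSpace (pullback l l) := isAlgSpace_of_openCover φ (fun i => (hp i.1 i.2).1) hφ hφcov
  have hsnd : LocP @Etale (pullback.snd l l) := by
    refine H12AlgSp.locP_etale_of_isEtaleMor (isEtaleMor_of_openCover hT _ φ hφ hφcov fun i => ?_)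
    rw [pullback.lift_snd]
    exact H12AlgSp.locP_comp etLocal_etale (hp i.1 i.2).1 (IsAlgSpace.yon_obj _) hT (hp i.1 i.2).2
      (H12AlgSp.locP_of_repWith etLocal_etale
        (repWith_le (fun _ _ k (_ : IsOpenImmersion k) => inferInstanceAs (Etale k)) (hinc i.2)))
  have hepi : Epi l := by
    have := epi_of_etale_surjective ha has
    have := epi_of_etale_surjective hb hbs
    refine ⟨fun {Z} g h e => ?_⟩
    have e' : ∀ i, c i ≫ g = c i ≫ h := fun i => by rw [← hl, Category.assoc, Category.assoc, e]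
    apply (isPushout jV f').hom_ext
    · rw [← cancel_epi b, ← Category.assoc, ← Category.assoc]; exact e' ⟨false⟩
    · rw [← cancel_epi a, ← Category.assoc, ← Category.assoc]; exact e' ⟨true⟩
  have sqR : IsPullback (pullback.fst l l) (pullback.snd l l) l l := IsPullback.of_hasPullback l l
  have hW : IsAlgSpace (glue jV f') := isAlgSpace_of_repBySp_fppf hT l
    (repBySp_fppf_of_epi hT hR sqR (H12AlgSp.locP_mono (fun _ _ k (_ : Etale k) => inferInstanceAs (Flat k)) hsnd)
      (H12AlgSp.locP_mono (fun _ _ k (_ : Etale k) => inferInstanceAs (LocallyOfFinitePresentation k)) hsnd))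
  have hlet : RepWith @Etale l := by
    refine repWith_of_snd (hW.representable_from_yon l) fun T' g => ?_
    obtain ⟨T'', k, x, hk, hx⟩ := exists_fppf_lift l g
    let hrep := hW.representable_from_yon l
    obtain ⟨D, hD⟩ : ∃ D : Over S, IsPullback (hrep.fst g) ((yon S).map (hrep.snd g)) l g :=
      ⟨hrep.pullback g, hrep.isPullback g⟩
    have sqQ := IsPullback.of_hasPullback (pullback.snd l l) x
    have bigQ := sqQ.paste_horiz sqR
    rw [hx] at bigQ
    let m : pullback (pullback.snd l l) x ⟶ (yon S).obj (hrep.pullback g) :=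
      hD.lift (pullback.fst _ x ≫ pullback.fst l l) (pullback.snd _ x ≫ (yon S).map k)
        (by rw [bigQ.w, Category.assoc])
    have sqm : IsPullback m (pullback.snd (pullback.snd l l) x) ((yon S).map (hrep.snd g)) ((yon S).map k) :=
      IsPullback.of_right (by rw [hD.lift_fst]; exact bigQ) (hD.lift_snd _ _ _) hD
    have h : LocP @Etale ((yon S).map (hrep.snd g)) :=
      locP_of_fppf_base etLocal_etale (IsAlgSpace.yon_obj _) hk sqm
        (H12AlgSp.locP_of_isPullback etLocal_etale sqQ hR hT (IsAlgSpace.yon_obj T'') hsnd)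
    exact h (𝟙 _) (𝟙 _) (hrep.snd g) (repWith_id _ _) (repWith_id _ _) (by simp)
  refine ⟨hW, isEtaleMor_of_locP_etale hW ?_⟩
  refine locP_of_source_cover etLocal_etale _ (IsAlgSpace.yon_obj B) hW hb hbs ?_
  refine H12AlgSp.locP_of_repWith etLocal_etale ?_
  rw [show b ≫ inl jV f' = (yon S).map (inc ⟨false⟩) ≫ l from (hl ⟨false⟩).symm]
  exact repWith_comp (repWith_le (fun _ _ k (_ : IsOpenImmersion k) => inferInstanceAs (Etale k)) (hinc _)) hlet

theorem isElemDistSq : IsElemDistSq (inr jV f') (inl jV f') := by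
  have := mono_jV hjV
  obtain ⟨hW, hf⟩ := main hjV hU hV hV' het
  have hj := repWith_inr (f' := f') hjV
  obtain ⟨T, i, -, hi⟩ := exists_redInduced_compl hW hj
  refine ⟨hj, hf, T, pullback i (inl jV f'), i, pullback.fst _ _, pullback.snd _ _, hi,
    IsPullback.of_hasPullback _ _, ?_⟩
  have hempty : ∀ (Z : Over S) (y : (yon S).obj Z ⟶ T) (x : (yon S).obj Z ⟶ U),
      x ≫ inr jV f' = y ≫ i → IsEmpty Z.left := by
    intro Z y x e
    refine ⟨fun z => ?_⟩
    have h₁ : Points.ofPt (y ≫ i) z ∈ Set.range (Points.map i) := ⟨Points.ofPt y z, Points.map_ofPt _ _ _⟩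
    rw [hi.2.1] at h₁
    exact h₁ ⟨Points.ofPt x z, by rw [Points.map_ofPt, e]⟩
  have hm : Mono (pullback.fst i (inl jV f')) := by
    refine mono_of_yon fun Z a b e => pullback.hom_ext e ?_
    obtain ⟨𝒰, h𝒰⟩ := exists_local_inl_inl jV f' (x := a ≫ pullback.snd _ _) (x' := b ≫ pullback.snd _ _) (by
      rw [Category.assoc, Category.assoc, ← pullback.condition, reassoc_of% e])
    refine hom_ext_of_cover 𝒰.pointed.c 𝒰.pointed.mem fun k => ?_
    rcases h𝒰 k.1 with h | ⟨x, x', hx, -, -⟩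
    · exact h
    · exfalso
      refine (hempty _ ((yon S).map (𝒰.c k.1) ≫ a ≫ pullback.fst _ _) (x ≫ f') ?_).elim k.2.some
      rw [Category.assoc, ← (isPushout jV f').w, ← Category.assoc, hx]
      simp only [Category.assoc, pullback.condition]
  refine isIso_of_mono_of_local_lifts _ fun Z y => ?_
  obtain ⟨𝒰, h𝒰⟩ := exists_local_cases jV f' (y ≫ i)
  refine ⟨_, _, 𝒰.pointed.c, 𝒰.pointed.mem, fun k => ?_⟩
  rcases h𝒰 k.1 with ⟨v, hv⟩ | ⟨u, hu⟩
  · exact ⟨pullback.lift ((yon S).map (𝒰.c k.1) ≫ y) v (by rw [Category.assoc, hv]), pullback.lift_fst _ _ _⟩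
  · exact ((hempty _ _ u (by rw [hu, ← Category.assoc])).elim k.2.some)

end Groth.Agent.H13AlgSp.GlueElem
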