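import Groth.Agent.H13AlgSp.GlueElem.Pushout
import Groth.Agent.H13AlgSp.LocP
import Groth.Agent.H12AlgSp.Bootstrap
import Groth.Agent.H12AlgSp.OpenSub
import Groth.Agent.H12AlgSp.OpenCover
import Groth.Agent.H12AlgSp.LocP

/-!
Local criterion for open immersions of sheaves; etale morphisms out of spaces with open covers.
-/

set_option autoImplicit false
set_option backward.isDefEq.respectTransparency false

universe u

open CategoryTheory CategoryTheory.Limits AlgebraicGeometry Opposite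
open AlgSp Groth.Agent.H12AlgSp

noncomputable section

namespace Groth.Agent.H13AlgSp.GlueElem

variable {S : Scheme.{u}}

/-- The trivial family. -/
def Fam.refl (T : Over S) : Fam T where
  κ := PUnit.{u + 1}
  C _ := T
  c _ := 𝟙 T
  flat _ := inferInstanceAs (Flat (𝟙 T.left))
  lfp _ := inferInstanceAs (LocallyOfFinitePresentation (𝟙 T.left))
  surj t := ⟨⟨⟩, t, rfl⟩

/-- The members with a point. -/
def Fam.pointed {T : Over S} (𝒰 : Fam T) : Fam T where
  κ := {i : 𝒰.κ // Nonempty (𝒰.C i).left}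
  C i := 𝒰.C i.1
  c i := 𝒰.c i.1
  flat i := 𝒰.flat i.1
  lfp i := 𝒰.lfp i.1
  surj t := by
    obtain ⟨i, z, hz⟩ := 𝒰.surj t
    exact ⟨⟨i, ⟨z⟩⟩, z, hz⟩

/-- A monomorphism is an open immersion once, locally on every test scheme, its lifts are those landing
in some open. -/
theorem repWith_open_of_local {G F : Sp S} (g : G ⟶ F) [Mono g]
    (h : ∀ (T : Over S) (ξ : (yon S).obj T ⟶ F), ∃ 𝒰 : Fam T, ∀ i, ∃ O : (𝒰.C i).left.Opens,
      (∃ l, l ≫ g = (yon S).map (openIncl (𝒰.C i) O) ≫ (yon S).map (𝒰.c i) ≫ ξ) ∧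
      ∀ (Z : Over S) (k : Z ⟶ 𝒰.C i) (l : (yon S).obj Z ⟶ G),
        l ≫ g = (yon S).map k ≫ (yon S).map (𝒰.c i) ≫ ξ → ∀ z, k.left z ∈ O) :
    RepWith @IsOpenImmersion g := by
  refine MorphismProperty.relative.of_exists fun T ξ => ?_
  obtain ⟨𝒰, h𝒰⟩ := h T ξ
  choose O hl hmax using h𝒰
  choose l hl using hl
  have hopen : ∀ i, IsOpenMap (𝒰.c i).left := fun i =>
    have := 𝒰.flat i
    have := 𝒰.lfp i
    (𝒰.c i).left.isOpenMap
  let E : T.left.Opens := ⟨⋃ i, (𝒰.c i).left '' (O i : Set (𝒰.C i).left),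
    isOpen_iUnion fun i => hopen i _ (O i).2⟩
  have hsub : ∀ i, Set.range ((O i).ι ≫ (𝒰.c i).left) ⊆ Set.range E.ι := fun i => by
    rw [Scheme.Opens.range_ι]
    rintro _ ⟨x, rfl⟩
    exact Set.mem_iUnion.2 ⟨i, (O i).ι x, x.2, rfl⟩
  let d : ∀ i, openOver (𝒰.C i) (O i) ⟶ openOver T E := fun i =>
    Over.homMk (IsOpenImmersion.lift E.ι ((O i).ι ≫ (𝒰.c i).left) (hsub i)) (by
      change IsOpenImmersion.lift _ _ _ ≫ E.ι ≫ T.hom = (O i).ι ≫ (𝒰.C i).hom
      rw [IsOpenImmersion.lift_fac_assoc, Category.assoc, Over.w])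
  have hd : ∀ i, (d i).left ≫ E.ι = (O i).ι ≫ (𝒰.c i).left := fun i => IsOpenImmersion.lift_fac _ _ _
  have hcomp : ∀ i, d i ≫ openIncl T E = openIncl (𝒰.C i) (O i) ≫ 𝒰.c i := fun i =>
    Over.OverMorphism.ext (hd i)
  have hdf : ∀ i, Flat (d i).left := fun i => by
    refine MorphismProperty.of_postcomp (W := @Flat) (W' := MorphismProperty.monomorphisms Scheme.{u})
      (d i).left E.ι (inferInstanceAs (Mono E.ι)) ?_
    have := 𝒰.flat i
    rw [hd i]
    infer_instance
  have hdp : ∀ i, LocallyOfFinitePresentation (d i).left := fun i => by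
    refine MorphismProperty.of_postcomp (W := @LocallyOfFinitePresentation)
      (W' := MorphismProperty.monomorphisms Scheme.{u}) (d i).left E.ι (inferInstanceAs (Mono E.ι)) ?_
    have := 𝒰.lfp i
    rw [hd i]
    exact MorphismProperty.comp_mem @LocallyOfFinitePresentation (O i).ι _ inferInstance (𝒰.lfp i)
  have hds : ∀ e : (openOver T E).left, ∃ i, e ∈ Set.range (d i).left := fun e => by
    obtain ⟨i, y, hy, hye⟩ := Set.mem_iUnion.1 e.2
    refine ⟨i, ⟨y, hy⟩, E.ι.isOpenEmbedding.injective ?_⟩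
    exact (congrArg (fun f : (openOver (𝒰.C i) (O i)).left ⟶ T.left => f ⟨y, hy⟩) (hd i)).trans hye
  have hJ := ofArrows_mem_J (C := fun i => openOver (𝒰.C i) (O i)) d hdf hdp hds
  have hι : Mono ((yon S).map (openIncl T E)) :=
    mono_of_openImmersion ((repWith_yon_map_iff _ _).2 (inferInstanceAs (IsOpenImmersion E.ι)))
  have hlift : ∀ i, l i ≫ g = (yon S).map (d i) ≫ (yon S).map (openIncl T E) ≫ ξ := fun i => by
    rw [hl i, ← Functor.map_comp_assoc, ← Functor.map_comp_assoc, hcomp]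
  have hmem : ∀ (Z : Over S) (k : Z ⟶ T) (l' : (yon S).obj Z ⟶ G),
      l' ≫ g = (yon S).map k ≫ ξ → ∀ z, k.left z ∈ E := by
    intro Z k l' e z
    obtain ⟨i, y, hy⟩ := 𝒰.surj (k.left z)
    obtain ⟨w, hw₁, hw₂⟩ := Scheme.exists_preimage_of_isPullback
      ((IsPullback.of_hasPullback k (𝒰.c i)).map (Over.forget S)) z y hy.symm
    refine Set.mem_iUnion.2 ⟨i, y, ?_, hy⟩
    have := hmax i _ (pullback.snd k (𝒰.c i)) ((yon S).map (pullback.fst k (𝒰.c i)) ≫ l') (by
      rw [Category.assoc, e, ← Functor.map_comp_assoc, ← Functor.map_comp_assoc, pullback.condition]) w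
    exact hw₂ ▸ this
  let ι' := (yon S).map (openIncl T E)
  obtain ⟨ε, hε⟩ : ∃ ε : (yon S).obj (openOver T E) ⟶ G, ∀ i, (yon S).map (d i) ≫ ε = l i := by
    refine exists_glue d hJ l fun i j Z a b e => ?_
    rw [← cancel_mono g, Category.assoc, Category.assoc, hlift, hlift, ← Functor.map_comp_assoc,
      ← Functor.map_comp_assoc, e]
    simp
  have hεg : ε ≫ g = ι' ≫ ξ := hom_ext_of_cover d hJ fun i => by rw [reassoc_of% (hε i), hlift]
  refine ⟨openOver T E, ε, openIncl T E, ?_, inferInstanceAs (IsOpenImmersion E.ι)⟩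
  have : Mono (pullback.lift ε ι' hεg) := by
    have : Mono (pullback.lift ε ι' hεg ≫ pullback.snd g ξ) := by rw [pullback.lift_snd]; exact hι
    exact mono_of_mono _ (pullback.snd g ξ)
  have : IsIso (pullback.lift ε ι' hεg) := by
    refine isIso_of_mono_of_local_lifts _ fun Z y => ?_
    obtain ⟨k, hk⟩ := (yon S).map_surjective (y ≫ pullback.snd g ξ)
    have hkE : Set.range k.left ⊆ Set.range E.ι := by
      rw [Scheme.Opens.range_ι]
      rintro _ ⟨z, rfl⟩
      exact hmem Z k (y ≫ pullback.fst g ξ) (by rw [hk, Category.assoc, Category.assoc, pullback.condition]) z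
    let k' : Z ⟶ openOver T E := Over.homMk (IsOpenImmersion.lift E.ι k.left hkE) (by
      change IsOpenImmersion.lift _ _ _ ≫ E.ι ≫ T.hom = Z.hom
      rw [IsOpenImmersion.lift_fac_assoc, Over.w])
    have hk' : k' ≫ openIncl T E = k := Over.OverMorphism.ext (IsOpenImmersion.lift_fac _ _ _)
    refine ⟨PUnit.{u + 1}, fun _ => Z, fun _ => 𝟙 Z, identity_cover Z, fun _ => ⟨(yon S).map k', ?_⟩⟩
    rw [CategoryTheory.Functor.map_id, Category.id_comp]
    have h₂ : ((yon S).map k' ≫ pullback.lift ε ι' hεg) ≫ pullback.snd g ξ = y ≫ pullback.snd g ξ := by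
      rw [Category.assoc, pullback.lift_snd, ← Functor.map_comp, hk', hk]
    refine pullback.hom_ext ?_ h₂
    rw [← cancel_mono g]
    simp only [Category.assoc, pullback.condition]
    simpa [Category.assoc] using congrArg (· ≫ ξ) h₂
  exact IsPullback.of_iso_pullback ⟨hεg⟩ (asIso (pullback.lift ε ι' hεg)) (pullback.lift_fst _ _ _)
    (pullback.lift_snd _ _ _)

/-- Etaleness is local for open covers of the source. -/
theorem isEtaleMor_of_openCover {F G : Sp S} (hG : IsAlgSpace G) (f : F ⟶ G) {ι : Type u} {Fi : ι → Sp S}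
    (j : ∀ i, Fi i ⟶ F) (hj : ∀ i, RepWith @IsOpenImmersion (j i))
    (hcov : ∀ x : Points F, ∃ i, x ∈ Set.range (Points.map (j i)))
    (h : ∀ i, LocP @Etale (j i ≫ f)) : IsEtaleMor f := by
  refine isEtaleMor_of_locP_etale hG fun A B a b g ha hb w => ?_
  choose C c k sq using fun i => (hj i).rep a
  have ho : ∀ i, IsOpenImmersion (c i).left := fun i => (hj i).property a (k i) (c i) (sq i)
  let 𝒞 : A.left.OpenCover := Scheme.Cover.mkOfCovers ι (fun i => (C i).left) (fun i => (c i).left)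
    (fun x => by
      obtain ⟨i, hi⟩ := hcov (Points.ofPt a x)
      obtain ⟨z, hz⟩ := (preimage_ofPt_range (sq i)).le hi
      exact ⟨i, z, hz⟩) ho
  refine IsZariskiLocalAtSource.of_openCover (P := @Etale) 𝒞 fun i => ?_
  change Etale ((c i).left ≫ g.left)
  rw [← Over.comp_left]
  refine h i (k i) b (c i ≫ g) (repWith_of_isPullback (sq i).flip ha) hb ?_
  rw [← Category.assoc, (sq i).w, Category.assoc, w, ← Category.assoc, ← Functor.map_comp]

end Groth.Agent.H13AlgSp.GlueElem
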