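import Groth.Agent.H13AlgSp.Cover
import Groth.Agent.H13AlgSp.Refinement

/-!
Pushouts of sheaves along monomorphisms, locally.
-/

set_option autoImplicit false
set_option backward.isDefEq.respectTransparency false

universe u

open CategoryTheory CategoryTheory.Limits AlgebraicGeometry Opposite
open AlgSp Groth.Agent.H12AlgSp

noncomputable section

namespace Groth.Agent.H13AlgSp.GlueElem

variable {S : Scheme.{u}} {U V V' : Sp S} (jV : V' ⟶ V) (f' : V' ⟶ U)

/-- The pushout of presheaves. -/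
def pre : (Over S)ᵒᵖ ⥤ Type (u + 1) := pushout jV.hom f'.hom

/-- The pushout of sheaves. -/
def glue : Sp S := (presheafToSheaf (J S) (Type (u + 1))).obj (pre jV f')

/-- The comparison. -/
def unit : pre jV f' ⟶ (glue jV f').obj := toSheafify (J S) _

def preInl : V.obj ⟶ pre jV f' := pushout.inl _ _

def preInr : U.obj ⟶ pre jV f' := pushout.inr _ _

def inl : V ⟶ glue jV f' := ObjectProperty.homMk (preInl jV f' ≫ unit jV f')

def inr : U ⟶ glue jV f' := ObjectProperty.homMk (preInr jV f' ≫ unit jV f')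

theorem isPushout : IsPushout jV f' (inl jV f') (inr jV f') := by
  refine IsPushout.of_isColimit' ⟨?_⟩ (PushoutCocone.IsColimit.mk _
    (fun s => ObjectProperty.homMk (sheafifyLift (J S) (pushout.desc s.inl.hom s.inr.hom
      (congrArg (fun t => t.hom) s.condition)) s.pt.property)) ?_ ?_ ?_)
  · apply ObjectProperty.hom_ext
    change jV.hom ≫ pushout.inl _ _ ≫ _ = f'.hom ≫ pushout.inr _ _ ≫ _
    rw [← Category.assoc, pushout.condition, Category.assoc]
  · intro s
    apply ObjectProperty.hom_ext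
    change (preInl jV f' ≫ toSheafify (J S) _) ≫ sheafifyLift (J S) _ _ = s.inl.hom
    rw [Category.assoc, toSheafify_sheafifyLift]
    exact pushout.inl_desc _ _ _
  · intro s
    apply ObjectProperty.hom_ext
    change (preInr jV f' ≫ toSheafify (J S) _) ≫ sheafifyLift (J S) _ _ = s.inr.hom
    rw [Category.assoc, toSheafify_sheafifyLift]
    exact pushout.inr_desc _ _ _
  · intro s m h₁ h₂
    apply ObjectProperty.hom_ext
    refine sheafifyLift_unique _ _ _ _ ?_
    apply pushout.hom_ext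
    · rw [pushout.inl_desc, ← Category.assoc]
      exact congrArg (fun t => t.hom) h₁
    · rw [pushout.inr_desc, ← Category.assoc]
      exact congrArg (fun t => t.hom) h₂

section Presheaf

variable [Mono jV] (T : (Over S)ᵒᵖ)

theorem app_injective : Function.Injective (jV.hom.app T) := by
  have : Mono ((sheafToPresheaf (J S) (Type (u + 1))).map jV) := inferInstance
  have : Mono jV.hom := this
  have : Mono (jV.hom.app T) := inferInstance
  exact (mono_iff_injective _).1 this

theorem sqT : IsPushout (jV.hom.app T) (f'.hom.app T) ((preInl jV f').app T) ((preInr jV f').app T) :=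
  (IsPushout.of_hasPushout jV.hom f'.hom).map ((evaluation (Over S)ᵒᵖ (Type (u + 1))).obj T)

theorem pre_cases (p : (pre jV f').obj T) :
    (∃ x, (preInl jV f').app T x = p) ∨ ∃ y, (preInr jV f').app T y = p := by
  classical
  have h : (TypeCat.ofHom (fun q => ULift.up.{u + 1} (decide
      ((∃ x, (preInl jV f').app T x = q) ∨ ∃ y, (preInr jV f').app T y = q))) :
        (pre jV f').obj T ⟶ ULift.{u + 1} Bool) = TypeCat.ofHom (fun _ => ULift.up true) := by
    apply (sqT jV f' T).hom_ext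
    · ext x
      simpa using Or.inl ⟨x, rfl⟩
    · ext y
      simpa using Or.inr ⟨y, rfl⟩
  have := ConcreteCategory.congr_hom h p
  simpa using congrArg ULift.down this

open Classical in
/-- The test map separating the sections. -/
theorem exists_test : ∃ φ : (pre jV f').obj T → U.obj.obj T ⊕ V.obj.obj T,
    (∀ u, φ ((preInr jV f').app T u) = Sum.inl u) ∧
      (∀ a, φ ((preInl jV f').app T (jV.hom.app T a)) = Sum.inl (f'.hom.app T a)) ∧
      ∀ x, (¬ ∃ a, jV.hom.app T a = x) → φ ((preInl jV f').app T x) = Sum.inr x := by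
  let φV : V.obj.obj T ⟶ U.obj.obj T ⊕ V.obj.obj T := TypeCat.ofHom fun x =>
    if h : ∃ a, jV.hom.app T a = x then Sum.inl (f'.hom.app T h.choose) else Sum.inr x
  let φU : U.obj.obj T ⟶ U.obj.obj T ⊕ V.obj.obj T := TypeCat.ofHom Sum.inl
  have hV : ∀ a, φV (jV.hom.app T a) = Sum.inl (f'.hom.app T a) := fun a => by
    have h : ∃ b, jV.hom.app T b = jV.hom.app T a := ⟨a, rfl⟩
    change (if h : ∃ b, jV.hom.app T b = jV.hom.app T a then _ else _) = _
    rw [dif_pos h, app_injective jV T h.choose_spec]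
  have w : jV.hom.app T ≫ φV = f'.hom.app T ≫ φU := by
    ext a
    exact hV a
  refine ⟨(sqT jV f' T).desc φV φU w, fun u => ConcreteCategory.congr_hom ((sqT jV f' T).inr_desc φV φU w) u,
    fun a => (ConcreteCategory.congr_hom ((sqT jV f' T).inl_desc φV φU w) _).trans (hV a), fun x hx => ?_⟩
  refine (ConcreteCategory.congr_hom ((sqT jV f' T).inl_desc φV φU w) x).trans ?_
  change (if h : ∃ b, jV.hom.app T b = x then _ else _) = _
  rw [dif_neg hx]

theorem preInr_injective : Function.Injective ((preInr jV f').app T) := fun u u' h => by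
  obtain ⟨φ, hφ, -, -⟩ := exists_test jV f' T
  have := congrArg φ h
  rw [hφ, hφ] at this
  exact Sum.inl_injective this

theorem preInr_eq_preInl {u : U.obj.obj T} {x : V.obj.obj T}
    (h : (preInr jV f').app T u = (preInl jV f').app T x) :
    ∃ a, jV.hom.app T a = x ∧ f'.hom.app T a = u := by
  obtain ⟨φ, hφ, hφ₁, hφ₂⟩ := exists_test jV f' T
  by_cases hx : ∃ a, jV.hom.app T a = x
  · obtain ⟨a, rfl⟩ := hx
    have := congrArg φ h
    rw [hφ, hφ₁] at this
    exact ⟨a, rfl, (Sum.inl_injective this).symm⟩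
  · have := congrArg φ h
    rw [hφ, hφ₂ x hx] at this
    exact absurd this Sum.inl_ne_inr

theorem preInl_eq_preInl {x x' : V.obj.obj T}
    (h : (preInl jV f').app T x = (preInl jV f').app T x') :
    x = x' ∨ ∃ a a', jV.hom.app T a = x ∧ jV.hom.app T a' = x' ∧ f'.hom.app T a = f'.hom.app T a' := by
  obtain ⟨φ, -, hφ₁, hφ₂⟩ := exists_test jV f' T
  have := congrArg φ h
  by_cases hx : ∃ a, jV.hom.app T a = x <;> by_cases hx' : ∃ a, jV.hom.app T a = x'
  · obtain ⟨a, rfl⟩ := hx
    obtain ⟨a', rfl⟩ := hx'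
    rw [hφ₁, hφ₁] at this
    exact Or.inr ⟨a, a', rfl, rfl, Sum.inl_injective this⟩
  · obtain ⟨a, rfl⟩ := hx
    rw [hφ₁, hφ₂ x' hx'] at this
    exact absurd this Sum.inl_ne_inr
  · obtain ⟨a, rfl⟩ := hx'
    rw [hφ₂ x hx, hφ₁] at this
    exact absurd this.symm Sum.inl_ne_inr
  · rw [hφ₂ x hx, hφ₂ x' hx'] at this
    exact Or.inl (Sum.inr_injective this)

end Presheaf

section Local

variable {X : Sp S} {T : Over S}

/-- Sections as elements. -/
abbrev el (x : (yon S).obj T ⟶ X) : X.obj.obj (op T) := (J S).uliftYonedaEquiv x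

theorem el_comp {Y : Sp S} (x : (yon S).obj T ⟶ X) (g : X ⟶ Y) : el (x ≫ g) = g.hom.app (op T) (el x) :=
  GrothendieckTopology.uliftYonedaEquiv_comp _ _ _

theorem el_map {C : Over S} (c : C ⟶ T) (x : (yon S).obj T ⟶ X) :
    el ((yon S).map c ≫ x) = X.obj.map c.op (el x) :=
  (GrothendieckTopology.uliftYonedaEquiv_naturality _ _ _).symm

/-- A covering family. -/
structure Fam (T : Over S) where
  κ : Type u
  C : κ → Over S
  c : ∀ i, C i ⟶ T
  flat : ∀ i, Flat (c i).left
  lfp : ∀ i, LocallyOfFinitePresentation (c i).left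
  surj : ∀ t : T.left, ∃ i, t ∈ Set.range (c i).left

theorem Fam.mem (𝒰 : Fam T) : Sieve.ofArrows 𝒰.C 𝒰.c ∈ J S T :=
  ofArrows_mem_J _ 𝒰.flat 𝒰.lfp 𝒰.surj

variable [Mono jV]

theorem exists_local_eq {p q : (pre jV f').obj (op T)}
    (h : (unit jV f').app (op T) p = (unit jV f').app (op T) q) :
    ∃ 𝒰 : Fam T, ∀ i, (pre jV f').map (𝒰.c i).op p = (pre jV f').map (𝒰.c i).op q := by
  have : Presheaf.IsLocallyInjective (J S) (unit jV f') :=
    inferInstanceAs (Presheaf.IsLocallyInjective (J S) (toSheafify (J S) (pre jV f')))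
  obtain ⟨κ, C, c, h1, h2, h3, h4⟩ := exists_cover_of_mem_J
    (Presheaf.equalizerSieve_mem (J S) (unit jV f') p q h)
  exact ⟨⟨κ, C, c, h1, h2, h3⟩, h4⟩

/-- Every section of the pushout comes locally from one of the pieces. -/
theorem exists_local_cases (y : (yon S).obj T ⟶ glue jV f') :
    ∃ 𝒰 : Fam T, ∀ i, (∃ v, v ≫ inl jV f' = (yon S).map (𝒰.c i) ≫ y) ∨
      ∃ u, u ≫ inr jV f' = (yon S).map (𝒰.c i) ≫ y := by
  have : Presheaf.IsLocallySurjective (J S) (unit jV f') :=
    inferInstanceAs (Presheaf.IsLocallySurjective (J S) (toSheafify (J S) (pre jV f')))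
  obtain ⟨κ, C, c, h1, h2, h3, h4⟩ := exists_cover_of_mem_J
    (this.imageSieve_mem (U := T) (el y))
  refine ⟨⟨κ, C, c, h1, h2, h3⟩, fun i => ?_⟩
  obtain ⟨p, hp⟩ := h4 i
  rcases pre_cases jV f' (op (C i)) p with ⟨x, rfl⟩ | ⟨x, rfl⟩
  · refine Or.inl ⟨(J S).uliftYonedaEquiv.symm x, (J S).uliftYonedaEquiv.injective ?_⟩
    refine (el_comp _ _).trans ?_
    rw [el, Equiv.apply_symm_apply]
    exact hp.trans (el_map _ _).symm
  · refine Or.inr ⟨(J S).uliftYonedaEquiv.symm x, (J S).uliftYonedaEquiv.injective ?_⟩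
    refine (el_comp _ _).trans ?_
    rw [el, Equiv.apply_symm_apply]
    exact hp.trans (el_map _ _).symm

theorem el_inl_map {C : Over S} (c : C ⟶ T) (x : (yon S).obj T ⟶ V) :
    (pre jV f').map c.op ((preInl jV f').app (op T) (el x)) =
      (preInl jV f').app (op C) (el ((yon S).map c ≫ x)) := by
  rw [el_map]
  exact (NatTrans.naturality_apply (preInl jV f') c.op (el x)).symm

theorem el_inr_map {C : Over S} (c : C ⟶ T) (x : (yon S).obj T ⟶ U) :
    (pre jV f').map c.op ((preInr jV f').app (op T) (el x)) =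
      (preInr jV f').app (op C) (el ((yon S).map c ≫ x)) := by
  rw [el_map]
  exact (NatTrans.naturality_apply (preInr jV f') c.op (el x)).symm

theorem mono_inr : Mono (inr jV f') := by
  refine mono_of_yon fun T a b e => ?_
  have e' : el (a ≫ inr jV f') = el (b ≫ inr jV f') := congrArg el e
  rw [el_comp, el_comp] at e'
  obtain ⟨𝒰, h𝒰⟩ := exists_local_eq jV f' e'
  refine hom_ext_of_cover 𝒰.c 𝒰.mem fun i => (J S).uliftYonedaEquiv.injective ?_
  have := ((el_inr_map jV f' (𝒰.c i) a).symm.trans (h𝒰 i)).trans (el_inr_map jV f' (𝒰.c i) b)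
  exact preInr_injective jV f' _ this

theorem exists_local_inr_inl {u : (yon S).obj T ⟶ U} {x : (yon S).obj T ⟶ V}
    (e : u ≫ inr jV f' = x ≫ inl jV f') :
    ∃ 𝒰 : Fam T, ∀ i, ∃ a, a ≫ jV = (yon S).map (𝒰.c i) ≫ x ∧ a ≫ f' = (yon S).map (𝒰.c i) ≫ u := by
  have e' : el (u ≫ inr jV f') = el (x ≫ inl jV f') := congrArg el e
  rw [el_comp, el_comp] at e'
  obtain ⟨𝒰, h𝒰⟩ := exists_local_eq jV f' e'
  refine ⟨𝒰, fun i => ?_⟩
  have := ((el_inr_map jV f' (𝒰.c i) u).symm.trans (h𝒰 i)).trans (el_inl_map jV f' (𝒰.c i) x)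
  obtain ⟨a, ha₁, ha₂⟩ := preInr_eq_preInl jV f' _ this
  refine ⟨(J S).uliftYonedaEquiv.symm a, (J S).uliftYonedaEquiv.injective ?_,
    (J S).uliftYonedaEquiv.injective ?_⟩
  · refine (el_comp _ _).trans ?_
    rw [el, Equiv.apply_symm_apply]
    exact ha₁
  · refine (el_comp _ _).trans ?_
    rw [el, Equiv.apply_symm_apply]
    exact ha₂

theorem exists_local_inl_inl {x x' : (yon S).obj T ⟶ V} (e : x ≫ inl jV f' = x' ≫ inl jV f') :
    ∃ 𝒰 : Fam T, ∀ i, (yon S).map (𝒰.c i) ≫ x = (yon S).map (𝒰.c i) ≫ x' ∨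
      ∃ a a', a ≫ jV = (yon S).map (𝒰.c i) ≫ x ∧ a' ≫ jV = (yon S).map (𝒰.c i) ≫ x' ∧ a ≫ f' = a' ≫ f' := by
  have e' : el (x ≫ inl jV f') = el (x' ≫ inl jV f') := congrArg el e
  rw [el_comp, el_comp] at e'
  obtain ⟨𝒰, h𝒰⟩ := exists_local_eq jV f' e'
  refine ⟨𝒰, fun i => ?_⟩
  have := ((el_inl_map jV f' (𝒰.c i) x).symm.trans (h𝒰 i)).trans (el_inl_map jV f' (𝒰.c i) x')
  rcases preInl_eq_preInl jV f' _ this with h | ⟨a, a', h₁, h₂, h₃⟩
  · exact Or.inl ((J S).uliftYonedaEquiv.injective h)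
  · refine Or.inr ⟨(J S).uliftYonedaEquiv.symm a, (J S).uliftYonedaEquiv.symm a',
      (J S).uliftYonedaEquiv.injective ?_, (J S).uliftYonedaEquiv.injective ?_,
      (J S).uliftYonedaEquiv.injective ?_⟩
    · refine (el_comp _ _).trans ?_
      rw [el, Equiv.apply_symm_apply]
      exact h₁
    · refine (el_comp _ _).trans ?_
      rw [el, Equiv.apply_symm_apply]
      exact h₂
    · refine (el_comp _ _).trans (Eq.trans ?_ (el_comp _ _).symm)
      rw [el, el, Equiv.apply_symm_apply, Equiv.apply_symm_apply]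
      exact h₃

/-- The square is cartesian. -/
theorem isPullback : IsPullback jV f' (inl jV f') (inr jV f') := by
  have w := (isPushout jV f').w
  have : Mono (pullback.lift jV f' w) := by
    have : Mono (pullback.lift jV f' w ≫ pullback.fst (inl jV f') (inr jV f')) := by
      rw [pullback.lift_fst]; infer_instance
    exact mono_of_mono _ (pullback.fst (inl jV f') (inr jV f'))
  have : IsIso (pullback.lift jV f' w) := by
    refine isIso_of_mono_of_local_lifts _ fun T y => ?_
    obtain ⟨𝒰, h𝒰⟩ := exists_local_inr_inl jV f' (u := y ≫ pullback.snd _ _) (x := y ≫ pullback.fst _ _)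
      (by rw [Category.assoc, Category.assoc, pullback.condition])
    refine ⟨𝒰.κ, 𝒰.C, 𝒰.c, 𝒰.mem, fun i => ?_⟩
    obtain ⟨a, ha₁, ha₂⟩ := h𝒰 i
    refine ⟨a, pullback.hom_ext ?_ ?_⟩
    · rw [Category.assoc, pullback.lift_fst, ha₁, Category.assoc]
    · rw [Category.assoc, pullback.lift_snd, ha₂, Category.assoc]
  exact IsPullback.of_iso_pullback ⟨w⟩ (asIso (pullback.lift jV f' w)) (pullback.lift_fst _ _ _)
    (pullback.lift_snd _ _ _)

end Local

end Groth.Agent.H13AlgSp.GlueElem
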