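import Groth.Agent.H13AlgSp.GlueElem.Open
import Groth.Agent.H12AlgSp.FppfBootstrap
import Groth.Agent.H12AlgSp.Immersion
import Groth.Agent.H13AlgSp.RedInduced
import Groth.Agent.H13AlgSp.InductionPrinciple
import Groth.Agent.H12AlgSp.Presentation

/-!
The space obtained by gluing along an etale morphism from an open subspace.
-/

set_option autoImplicit false
set_option backward.isDefEq.respectTransparency false

universe u

open CategoryTheory CategoryTheory.Limits AlgebraicGeometry Opposite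
open AlgSp Groth.Agent.H12AlgSp

noncomputable section

namespace Groth.Agent.H13AlgSp.GlueElem

variable {S : Scheme.{u}} {U V V' : Sp S} (jV : V' ⟶ V) (f' : V' ⟶ U)

/-- The inclusion of a scheme-theoretic open of a test scheme along an open immersion of sheaves. -/
theorem exists_open_lift {A B : Sp S} {g : A ⟶ B} (hg : RepWith @IsOpenImmersion g) {C : Over S}
    (y : (yon S).obj C ⟶ B) :
    ∃ O : C.left.Opens, (∃ l, l ≫ g = (yon S).map (openIncl C O) ≫ y) ∧
      (O : Set C.left) = Points.ofPt y ⁻¹' Set.range (Points.map g) := by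
  obtain ⟨W, w, k, sq⟩ := hg.rep y
  have : IsOpenImmersion w.left := hg.property y k w sq
  refine ⟨w.left.opensRange, ?_, (preimage_ofPt_range sq).symm⟩
  have hr : Set.range (w.left.opensRange).ι ⊆ Set.range w.left := by rw [Scheme.Opens.range_ι]; exact subset_rfl
  let o : openOver C w.left.opensRange ⟶ W :=
    Over.homMk (IsOpenImmersion.lift w.left (w.left.opensRange).ι hr) (by
      change IsOpenImmersion.lift _ _ _ ≫ W.hom = (w.left.opensRange).ι ≫ C.hom
      rw [← Over.w w, IsOpenImmersion.lift_fac_assoc])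
  have ho : o ≫ w = openIncl C w.left.opensRange := Over.OverMorphism.ext (IsOpenImmersion.lift_fac _ _ _)
  exact ⟨(yon S).map o ≫ k, by rw [Category.assoc, sq.w, ← Functor.map_comp_assoc, ho]⟩

theorem ofPt_mem_of_fac {A B : Sp S} (g : A ⟶ B) {C Z : Over S} (y : (yon S).obj C ⟶ B) (k : Z ⟶ C)
    (l : (yon S).obj Z ⟶ A) (h : l ≫ g = (yon S).map k ≫ y) (z : Z.left) :
    Points.ofPt y (k.left z) ∈ Set.range (Points.map g) := by
  rw [← ofPt_map, ← h]
  exact ⟨Points.ofPt l z, Points.map_ofPt _ _ _⟩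

variable {jV f'}
variable (hjV : RepWith @IsOpenImmersion jV)
include hjV

theorem mono_jV : Mono jV := mono_of_openImmersion hjV

/-- The open part. -/
theorem repWith_inr : RepWith @IsOpenImmersion (inr jV f') := by
  have := mono_jV hjV
  have := mono_inr jV f'
  refine repWith_open_of_local _ fun T ξ => ?_
  obtain ⟨𝒰, h𝒰⟩ := exists_local_cases jV f' ξ
  refine ⟨𝒰, fun i => ?_⟩
  rcases h𝒰 i with ⟨v, hv⟩ | ⟨u, hu⟩
  · obtain ⟨O, ⟨l, hl⟩, hO⟩ := exists_open_lift hjV v
    refine ⟨O, ⟨l ≫ f', ?_⟩, fun Z k l' e z => ?_⟩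
    · rw [Category.assoc, ← (isPushout jV f').w, ← Category.assoc, hl, Category.assoc, hv]
    · obtain ⟨a, ha, -⟩ := (isPullback jV f').exists_lift ((yon S).map k ≫ v) l'
        (by rw [e, Category.assoc, hv])
      exact hO.ge (ofPt_mem_of_fac jV v k a ha z)
  · exact ⟨⊤, ⟨(yon S).map (openIncl _ ⊤) ≫ u, by rw [Category.assoc, hu]⟩, fun _ _ _ _ _ => trivial⟩

theorem kappa_w : (pullback.fst f' f' ≫ jV) ≫ inl jV f' = (pullback.snd f' f' ≫ jV) ≫ inl jV f' := by
  simp only [Category.assoc, (isPushout jV f').w, pullback.condition_assoc]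

omit hjV in
/-- The diagonal part of the kernel pair. -/
def delta : V ⟶ pullback (inl jV f') (inl jV f') := pullback.lift (𝟙 V) (𝟙 V) rfl

/-- The part of the kernel pair over the open. -/
def kappa : pullback f' f' ⟶ pullback (inl jV f') (inl jV f') :=
  pullback.lift (pullback.fst f' f' ≫ jV) (pullback.snd f' f' ≫ jV) (kappa_w hjV)

theorem mono_kappa : Mono (kappa (f' := f') hjV) := by
  have := mono_jV hjV
  refine ⟨fun a b e => pullback.hom_ext ((cancel_mono jV).1 ?_) ((cancel_mono jV).1 ?_)⟩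
  · simpa [kappa] using congrArg (· ≫ pullback.fst (inl jV f') (inl jV f')) e
  · simpa [kappa] using congrArg (· ≫ pullback.snd (inl jV f') (inl jV f')) e

theorem repWith_kappa : RepWith @IsOpenImmersion (kappa (f' := f') hjV) := by
  have := mono_jV hjV
  have := mono_inr jV f'
  have := mono_kappa (f' := f') hjV
  refine repWith_open_of_local _ fun T ξ => ⟨Fam.refl T, fun _ => ?_⟩
  obtain ⟨O₁, ⟨l₁, hl₁⟩, hO₁⟩ := exists_open_lift hjV (ξ ≫ pullback.fst _ _)
  obtain ⟨O₂, ⟨l₂, hl₂⟩, hO₂⟩ := exists_open_lift hjV (ξ ≫ pullback.snd _ _)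
  change ∃ O : T.left.Opens, _
  have i₁ : O₁ ⊓ O₂ ≤ O₁ := inf_le_left
  have i₂ : O₁ ⊓ O₂ ≤ O₂ := inf_le_right
  let e₁ : openOver T (O₁ ⊓ O₂) ⟶ openOver T O₁ := Over.homMk (T.left.homOfLE i₁) (by
    change T.left.homOfLE i₁ ≫ O₁.ι ≫ T.hom = _
    rw [Scheme.homOfLE_ι_assoc]; rfl)
  let e₂ : openOver T (O₁ ⊓ O₂) ⟶ openOver T O₂ := Over.homMk (T.left.homOfLE i₂) (by
    change T.left.homOfLE i₂ ≫ O₂.ι ≫ T.hom = _
    rw [Scheme.homOfLE_ι_assoc]; rfl)
  have he₁ : e₁ ≫ openIncl T O₁ = openIncl T (O₁ ⊓ O₂) := Over.OverMorphism.ext (T.left.homOfLE_ι i₁)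
  have he₂ : e₂ ≫ openIncl T O₂ = openIncl T (O₁ ⊓ O₂) := Over.OverMorphism.ext (T.left.homOfLE_ι i₂)
  have w₁ : ((yon S).map e₁ ≫ l₁) ≫ jV = ((yon S).map (openIncl T (O₁ ⊓ O₂)) ≫ ξ) ≫ pullback.fst _ _ := by
    rw [Category.assoc, hl₁, ← Functor.map_comp_assoc, he₁, Category.assoc]
  have w₂ : ((yon S).map e₂ ≫ l₂) ≫ jV = ((yon S).map (openIncl T (O₁ ⊓ O₂)) ≫ ξ) ≫ pullback.snd _ _ := by
    rw [Category.assoc, hl₂, ← Functor.map_comp_assoc, he₂, Category.assoc]
  have hw : ((yon S).map e₁ ≫ l₁) ≫ f' = ((yon S).map e₂ ≫ l₂) ≫ f' := by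
    rw [← cancel_mono (inr jV f')]
    simp only [Category.assoc, ← (isPushout jV f').w]
    simp only [← Category.assoc] at w₁ w₂ ⊢
    rw [w₁, w₂]
    simp only [Category.assoc, pullback.condition]
  refine ⟨O₁ ⊓ O₂, ⟨pullback.lift _ _ hw, ?_⟩, fun Z k l e z => ⟨?_, ?_⟩⟩
  · change _ = (yon S).map (openIncl T (O₁ ⊓ O₂)) ≫ (yon S).map (𝟙 T) ≫ ξ
    rw [CategoryTheory.Functor.map_id, Category.id_comp]
    apply pullback.hom_ext
    · rw [kappa, Category.assoc, pullback.lift_fst, pullback.lift_fst_assoc, w₁, Category.assoc]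
    · rw [kappa, Category.assoc, pullback.lift_snd, pullback.lift_snd_assoc, w₂, Category.assoc]
  · refine hO₁.ge (ofPt_mem_of_fac jV _ k (l ≫ pullback.fst f' f') ?_ z)
    have := congrArg (· ≫ pullback.fst (inl jV f') (inl jV f')) e
    simpa [kappa, Fam.refl] using this
  · refine hO₂.ge (ofPt_mem_of_fac jV _ k (l ≫ pullback.snd f' f') ?_ z)
    have := congrArg (· ≫ pullback.snd (inl jV f') (inl jV f')) e
    simpa [kappa, Fam.refl] using this

variable (hU : IsAlgSpace U) (hV : IsAlgSpace V) (hV' : IsAlgSpace V') (het : IsEtaleMor f')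

section
include hU hV' het

theorem repWith_delta : RepWith @IsOpenImmersion (delta (jV := jV) (f' := f')) := by
  have := mono_jV hjV
  have hd : RepWith @IsOpenImmersion (pullback.diagonal f') :=
    isOpenImmersion_diagonal_of_etale hV' hU (H12AlgSp.locP_etale_of_isEtaleMor het)
  have : Mono (delta (jV := jV) (f' := f')) :=
    ⟨fun a b e => by simpa [delta] using congrArg (· ≫ pullback.fst (inl jV f') (inl jV f')) e⟩
  refine repWith_open_of_local _ fun T ξ => ?_
  obtain ⟨𝒰, h𝒰⟩ := exists_local_inl_inl jV f' (x := ξ ≫ pullback.fst _ _) (x' := ξ ≫ pullback.snd _ _)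
    (by rw [Category.assoc, Category.assoc, pullback.condition])
  refine ⟨𝒰, fun i => ?_⟩
  rcases h𝒰 i with h | ⟨a, a', ha, ha', hw⟩
  · refine ⟨⊤, ⟨(yon S).map (openIncl _ ⊤) ≫ (yon S).map (𝒰.c i) ≫ ξ ≫ pullback.fst _ _, ?_⟩,
      fun _ _ _ _ _ => trivial⟩
    apply pullback.hom_ext
    · simp [delta]
    · simp [delta, h]
  · obtain ⟨O, ⟨l, hl⟩, hO⟩ := exists_open_lift hd (pullback.lift a a' hw)
    have h₁ : l = (yon S).map (openIncl _ O) ≫ a := by simpa using congrArg (· ≫ pullback.fst f' f') hl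
    have h₂ : l = (yon S).map (openIncl _ O) ≫ a' := by simpa using congrArg (· ≫ pullback.snd f' f') hl
    refine ⟨O, ⟨l ≫ jV, ?_⟩, fun Z k l' e z => ?_⟩
    · apply pullback.hom_ext
      · simp [delta, h₁, ha]
      · rw [Category.assoc, delta, pullback.lift_snd, Category.comp_id]
        simp [h₂, ha']
    · have e₁ : l' = (yon S).map k ≫ a ≫ jV := by
        simpa [delta, ha] using congrArg (· ≫ pullback.fst (inl jV f') (inl jV f')) e
      have e₂ : l' = (yon S).map k ≫ a' ≫ jV := by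
        simpa [delta, ha'] using congrArg (· ≫ pullback.snd (inl jV f') (inl jV f')) e
      have e₃ : (yon S).map k ≫ a = (yon S).map k ≫ a' := by
        rw [← cancel_mono jV, Category.assoc, Category.assoc, ← e₁, ← e₂]
      refine hO.ge (ofPt_mem_of_fac _ _ k ((yon S).map k ≫ a) ?_ z)
      apply pullback.hom_ext
      · simp
      · simp [e₃]

end

theorem cover_kernelPair (x : Points (pullback (inl jV f') (inl jV f'))) :
    x ∈ Set.range (Points.map (delta (jV := jV) (f' := f'))) ∨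
      x ∈ Set.range (Points.map (kappa (f' := f') hjV)) := by
  have := mono_jV hjV
  induction x using Points.ind with | h p =>
  obtain ⟨𝒰, h𝒰⟩ := exists_local_inl_inl jV f' (x := p.toHom ≫ pullback.fst _ _)
    (x' := p.toHom ≫ pullback.snd _ _) (by rw [Category.assoc, Category.assoc, pullback.condition])
  obtain ⟨i, z, hz⟩ := 𝒰.surj (IsLocalRing.closedPoint p.K)
  have hp : Points.ofPt ((yon S).map (𝒰.c i) ≫ p.toHom) z = Points.mk p := by
    rw [ofPt_map, hz]; exact Points.ofPt_toHom p _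
  rcases h𝒰 i with h | ⟨a, a', ha, ha', hw⟩
  · refine Or.inl ⟨Points.ofPt ((yon S).map (𝒰.c i) ≫ p.toHom ≫ pullback.fst _ _) z, ?_⟩
    have e : ((yon S).map (𝒰.c i) ≫ p.toHom ≫ pullback.fst _ _) ≫ delta (jV := jV) (f' := f') =
        (yon S).map (𝒰.c i) ≫ p.toHom := by
      apply pullback.hom_ext
      · simp [delta]
      · simp [delta, h]
    rw [Points.map_ofPt, e, hp]
  · refine Or.inr ⟨Points.ofPt (pullback.lift a a' hw) z, ?_⟩
    have e : pullback.lift a a' hw ≫ kappa (f' := f') hjV = (yon S).map (𝒰.c i) ≫ p.toHom := by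
      apply pullback.hom_ext
      · simp [kappa, ha]
      · simp [kappa, ha']
    rw [Points.map_ofPt, e, hp]

include hU hV hV' het

theorem isAlgSpace_kernelPair : IsAlgSpace (pullback (inl jV f') (inl jV f')) := by
  let Fi : ULift.{u} Bool → Sp S := fun b => match b with | ⟨true⟩ => V | ⟨false⟩ => pullback f' f'
  let g : ∀ b, Fi b ⟶ pullback (inl jV f') (inl jV f') := fun b =>
    match b with | ⟨true⟩ => delta (jV := jV) (f' := f') | ⟨false⟩ => kappa hjV
  refine isAlgSpace_of_openCover g ?_ ?_ fun x => ?_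
  · rintro ⟨⟨⟩⟩
    exacts [isAlgSpace_pullback hU.diag hV' hV' f' f', hV]
  · rintro ⟨⟨⟩⟩
    exacts [repWith_kappa hjV, repWith_delta hjV hU hV' het]
  · rcases cover_kernelPair hjV x with h | h
    exacts [⟨⟨true⟩, h⟩, ⟨⟨false⟩, h⟩]

theorem locP_etale_snd : LocP @Etale (pullback.snd (inl jV f') (inl jV f')) := by
  refine H12AlgSp.locP_etale_of_isEtaleMor ?_
  let Fi : ULift.{u} Bool → Sp S := fun b => match b with | ⟨true⟩ => V | ⟨false⟩ => pullback f' f'
  let g : ∀ b, Fi b ⟶ pullback (inl jV f') (inl jV f') := fun b =>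
    match b with | ⟨true⟩ => delta (jV := jV) (f' := f') | ⟨false⟩ => kappa hjV
  refine isEtaleMor_of_openCover hV _ g ?_ (fun x => ?_) ?_
  · rintro ⟨⟨⟩⟩
    exacts [repWith_kappa hjV, repWith_delta hjV hU hV' het]
  · rcases cover_kernelPair hjV x with h | h
    exacts [⟨⟨true⟩, h⟩, ⟨⟨false⟩, h⟩]
  · rintro ⟨⟨⟩⟩
    · change LocP @Etale (kappa hjV ≫ pullback.snd _ _)
      rw [kappa, pullback.lift_snd]
      exact H12AlgSp.locP_comp etLocal_etale (isAlgSpace_pullback hU.diag hV' hV' f' f') hV' hV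
        (H12AlgSp.locP_of_isPullback etLocal_etale (IsPullback.of_hasPullback f' f') hV' hU hV'
          (H12AlgSp.locP_etale_of_isEtaleMor het))
        (H12AlgSp.locP_of_repWith etLocal_etale
          (repWith_le (fun _ _ k (_ : IsOpenImmersion k) => inferInstanceAs (Etale k)) hjV))
    · change LocP @Etale (delta ≫ pullback.snd _ _)
      rw [delta, pullback.lift_snd]
      exact H12AlgSp.locP_of_repWith etLocal_etale (repWith_of_isIso _)

end Groth.Agent.H13AlgSp.GlueElem
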